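import Groth.Agent.DimFormula.Criteria
import Groth.Agent.DimFormula.QuasiSection
import Groth.Agent.FibDim.LocDim
import Groth.Agent.FibDim.Comp

/-!
# The dimension of the total space
-/

set_option autoImplicit false
set_option linter.style.haveILetI false

universe u

open AlgebraicGeometry CategoryTheory

namespace Groth.Agent.DimTot

open Groth.Agent.DimFormula Groth.Agent.FibDim

variable {X Y : Scheme.{u}} (f : X ⟶ Y) [IsLocallyNoetherian Y] [LocallyOfFiniteType f]

/-- A constant can be moved into a nonempty supremum. -/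
theorem iSup_add_le {ι : Sort*} [Nonempty ι] (a : ι → ℕ∞) (e : ℕ∞) (b : WithBot ℕ∞)
    (h : ∀ i, ((a i + e : ℕ∞) : WithBot ℕ∞) ≤ b) : (⨆ i, (a i : WithBot ℕ∞)) + e ≤ b := by
  obtain ⟨i₀⟩ := ‹Nonempty ι›
  obtain ⟨c, rfl⟩ : ∃ c : ℕ∞, (c : WithBot ℕ∞) = b :=
    WithBot.ne_bot_iff_exists.1 (ne_bot_of_le_ne_bot (WithBot.coe_ne_bot) (h i₀))
  rw [← WithBot.coe_iSup (OrderTop.bddAbove _), ← WithBot.coe_add, WithBot.coe_le_coe, ENat.iSup_add]
  exact iSup_le fun i => WithBot.coe_le_coe.1 (h i)

/-- A closed point of a fibre. -/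
theorem exists_closed_point_fibre (x : X) : ∃ a, f a = f x ∧ rd f a = 0 := by
  haveI : Nonempty ↥(f.fiber (f x)) := by
    obtain ⟨w, -⟩ : x ∈ Set.range (f.fiberι (f x)) := by rw [Scheme.Hom.range_fiberι]; rfl
    exact ⟨w⟩
  haveI : JacobsonSpace ↥(f.fiber (f x)) :=
    LocallyOfFiniteType.jacobsonSpace (f.fiberToSpecResidueField (f x))
  obtain ⟨w, -, hw⟩ := nonempty_inter_closedPoints (Z := (Set.univ : Set ↥(f.fiber (f x))))
    Set.univ_nonempty isClosed_univ.isLocallyClosed
  refine ⟨f.fiberι _ w, fiber_apply_fiberι f w, rd_eq_zero_of_closed f fun x' hx' hs => ?_⟩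
  obtain ⟨w', rfl⟩ : x' ∈ Set.range (f.fiberι (f x)) := by
    rw [Scheme.Hom.range_fiberι]; exact hx'.trans (fiber_apply_fiberι f w)
  have h1 : w' ∈ closure ({w} : Set ↥(f.fiber (f x))) :=
    ((fiberι_specializes_iff f _ _).1 hs).mem_closure
  rw [(mem_closedPoints_iff.1 hw).closure_eq, Set.mem_singleton_iff] at h1
  rw [h1]

theorem dim_le_add_n (n : ℕ) (h : ∀ y : Y, topologicalKrullDim ↥(f.fiber y) ≤ n) :
    topologicalKrullDim ↥X ≤ topologicalKrullDim ↥Y + n := by
  haveI := LocallyOfFiniteType.isLocallyNoetherian f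
  rw [topologicalKrullDim_eq_iSup_codim, topologicalKrullDim_eq_iSup_codim]
  refine iSup_le fun x => ?_
  obtain ⟨z, hz, hfz, -, -, hr⟩ := exists_fibMax_top f x
  have h1 := (topologicalKrullDim_fiber_le_iff f (f x) n).1 (h _) z hfz
  have h2 := codim_le_add f x
  have h3 : (codim x : WithBot ℕ∞) ≤ (codim (f x) : WithBot ℕ∞) + (n : WithBot ℕ∞) := by
    rw [← Nat.cast_add]
    exact_mod_cast (by omega : codim x ≤ codim (f x) + n)
  refine le_trans h3 (add_le_add ?_ le_rfl)
  exact le_iSup_of_le (f x) le_rfl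

variable [IrreducibleSpace X] [IrreducibleSpace Y]

/-- Dimensions over an irreducible base. -/
theorem codim_add_rd_le (hf : DenseRange f) (x : X) :
    codim x + rd f x ≤ codim (f x) + rd f (genericPoint X) ∧
      (CAlg.IsUniversallyCatenary (Y.presheaf.stalk (f x)) →
        codim x + rd f x = codim (f x) + rd f (genericPoint X)) := by
  haveI := LocallyOfFiniteType.isLocallyNoetherian f
  haveI : IsDominant f := ⟨hf⟩
  have he := (generic_fibre_dim f).1
  have h := cd_formula f ((genericPoint_spec X).specializes (Set.mem_univ x))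
  rw [he, cd_eq_codim_of_irreducible x, cd_eq_codim_of_irreducible (f x)] at h
  exact h

theorem dim_le (hf : DenseRange f) :
    topologicalKrullDim ↥X ≤ topologicalKrullDim ↥Y + topologicalKrullDim ↥(f.fiber (genericPoint Y)) := by
  haveI := LocallyOfFiniteType.isLocallyNoetherian f
  haveI : IsDominant f := ⟨hf⟩
  rw [topologicalKrullDim_eq_iSup_codim, topologicalKrullDim_eq_iSup_codim, (generic_fibre_dim f).2]
  refine iSup_le fun x => ?_
  have h1 := (codim_add_rd_le f hf x).1
  have h3 : (codim x : WithBot ℕ∞) ≤ (codim (f x) : WithBot ℕ∞) + (rd f (genericPoint X) : WithBot ℕ∞) := by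
    rw [← Nat.cast_add]
    exact_mod_cast (by omega : codim x ≤ codim (f x) + rd f (genericPoint X))
  exact le_trans h3 (add_le_add (le_iSup_of_le (f x) le_rfl) le_rfl)

theorem dim_eq (hf : DenseRange f) (hY : ∀ y : Y, CAlg.IsUniversallyCatenary (Y.presheaf.stalk y)) :
    topologicalKrullDim ↥X =
      (⨆ y ∈ Set.range f.base, ringKrullDim (Y.presheaf.stalk y)) +
        topologicalKrullDim ↥(f.fiber (genericPoint Y)) := by
  haveI := LocallyOfFiniteType.isLocallyNoetherian f
  haveI : IsDominant f := ⟨hf⟩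
  rw [topologicalKrullDim_eq_iSup_codim, (generic_fibre_dim f).2]
  refine le_antisymm (iSup_le fun x => ?_) ?_
  · have h1 := (codim_add_rd_le f hf x).1
    have h3 : (codim x : WithBot ℕ∞) ≤ (codim (f x) : WithBot ℕ∞) + (rd f (genericPoint X) : WithBot ℕ∞) := by
      rw [← Nat.cast_add]
      exact_mod_cast (by omega : codim x ≤ codim (f x) + rd f (genericPoint X))
    refine le_trans h3 (add_le_add ?_ le_rfl)
    refine le_iSup₂_of_le (f x) ⟨x, rfl⟩ ?_
    rw [ringKrullDim_stalk]
  · haveI : Nonempty (Set.range f.base) := ⟨⟨_, genericPoint X, rfl⟩⟩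
    rw [iSup_subtype' (f := fun (y : Y) (_ : y ∈ Set.range f.base) => ringKrullDim (Y.presheaf.stalk y))]
    simp only [ringKrullDim_stalk]
    refine iSup_add_le (fun y : {y : Y // y ∈ Set.range f.base} => (codim y.1 : ℕ∞)) _ _ ?_
    rintro ⟨_, x, rfl⟩
    obtain ⟨a, ha, hrd⟩ := exists_closed_point_fibre f x
    have h1 := (codim_add_rd_le f hf a).2 (hY _)
    refine le_iSup_of_le a ?_
    rw [hrd, add_zero, ha] at h1
    rw [h1]
    exact_mod_cast le_rfl

end Groth.Agent.DimTot

namespace Groth.Agent.DimTot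

/-- Cancellation of a natural number in `WithBot ℕ∞`. -/
theorem add_nat_cancel {a b : WithBot ℕ∞} {n : ℕ} (h : a + n = b + n) : a = b := by
  induction a with
  | bot =>
    induction b with
    | bot => rfl
    | coe b => exact absurd h.symm (by simp [WithBot.add_eq_bot])
  | coe a =>
    induction b with
    | bot => exact absurd h (by simp [WithBot.add_eq_bot])
    | coe b =>
      have h' : a + (n : ℕ∞) = b + (n : ℕ∞) := WithBot.coe_injective h
      cases a using ENat.recTopCoe <;> cases b using ENat.recTopCoe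
      · rfl
      · rw [top_add, ← Nat.cast_add] at h'; exact absurd h'.symm (ENat.natCast_ne_top _)
      · rw [top_add, ← Nat.cast_add] at h'; exact absurd h' (ENat.natCast_ne_top _)
      · rw [← Nat.cast_add, ← Nat.cast_add, Nat.cast_inj] at h'
        rw [Nat.add_right_cancel h']

theorem iSup_stalk_univ (Y : Scheme.{u}) [IsLocallyNoetherian Y] :
    (⨆ y ∈ (Set.univ : Set Y), ringKrullDim (Y.presheaf.stalk y)) = topologicalKrullDim ↥Y := by
  rw [FibDim.topologicalKrullDim_eq_iSup_codim, iSup_univ]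
  exact iSup_congr fun y => DimFormula.ringKrullDim_stalk y

end Groth.Agent.DimTot
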